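import Cfsg.Agent.H121.Cyc.Sq
import Cfsg.Agent.H121.Cyc.Prime
import Cfsg.Agent.H122.Cyc.Base
import Cfsg.Agent.H123.RowPSp
import Cfsg.Agent.H124.SplitNC
import Cfsg.Agent.H259.NatMod
import Cfsg.Agent.S2299
import Cfsg.Agent.S2300

/-!
# The row `PSL` of S2351
-/

set_option autoImplicit false
set_option linter.unusedSectionVars false

namespace Cfsg.Agent.H124.RowPSL

open Module Matrix Cfsg Cfsg.Agent.H122 Cfsg.Agent.H121.Cyc Polynomial

/-- **orders of the `p`-elements of `GL_n(q)`** -/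
theorem exists_dvd {F : Type*} [Field F] [Fintype F] {ι : Type*} [Fintype ι] [DecidableEq ι]
    {g : Matrix ι ι F} {p a : ℕ} [hp : Fact p.Prime]
    (hpF : ¬ p ∣ Fintype.card F) (ha : 1 ≤ a) (hg1 : g ^ (p ^ a) = 1) (hg2 : g ^ (p ^ (a - 1)) ≠ 1) :
    ∃ k, 1 ≤ k ∧ k ≤ Fintype.card ι ∧ p ^ a ∣ Fintype.card F ^ k - 1 := by
  classical
  have hpF' : (p : F) ≠ 0 := by
    intro h
    apply hpF
    have h1 : ringChar F ∣ p := (ringChar.spec F p).1 h
    have h2 : p = ringChar F := by
      rcases (Nat.dvd_prime hp.out).1 h1 with h3 | h3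
      · exact absurd h3 CharP.ringChar_ne_one
      · exact h3.symm
    obtain ⟨n, -, hn⟩ := FiniteField.card F (ringChar F)
    rw [hn, h2]
    exact dvd_pow_self _ n.ne_zero
  obtain ⟨l, hl, hlo⟩ := Cfsg.Agent.H122.Cyc.exists_root hpF' ha hg1 hg2
  have hl0 : l ≠ 0 := by
    rintro rfl
    have h1 : (0 : AlgebraicClosure F) ^ (p ^ a) = 1 := by rw [← hlo]; exact pow_orderOf_eq_one _
    rw [zero_pow (pow_ne_zero _ hp.out.ne_zero)] at h1
    exact zero_ne_one h1
  set q := Fintype.card F with hq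
  have hcop : (p ^ a).Coprime q := ((Nat.Prime.coprime_iff_not_dvd hp.out).2 hpF).pow_left a
  have hc0 : g.charpoly.map (algebraMap F (AlgebraicClosure F)) ≠ 0 :=
    (g.charpoly_monic.map _).ne_zero
  have hmem : ∀ x : AlgebraicClosure F, aeval x g.charpoly = 0 →
      x ∈ (g.charpoly.map (algebraMap F (AlgebraicClosure F))).roots.toFinset := by
    intro x hx
    rw [Multiset.mem_toFinset, mem_roots']
    exact ⟨hc0, by rw [IsRoot.def, eval_map_algebraMap, hx]⟩
  have hcard : (g.charpoly.map (algebraMap F (AlgebraicClosure F))).roots.toFinset.card ≤ Fintype.card ι := by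
    refine (Multiset.toFinset_card_le _).trans ((card_roots' _).trans ?_)
    rw [natDegree_map, Matrix.charpoly_natDegree_eq_dim]
  -- two of the `card ι + 1` conjugates coincide
  obtain ⟨i, hi, j, hj, hij, he⟩ : ∃ i ∈ Finset.range (Fintype.card ι + 1), ∃ j ∈ Finset.range (Fintype.card ι + 1),
      i ≠ j ∧ l ^ (q ^ i) = l ^ (q ^ j) := by
    refine Finset.exists_ne_map_eq_of_card_lt_of_maps_to
      (t := (g.charpoly.map (algebraMap F (AlgebraicClosure F))).roots.toFinset) ?_ ?_
    · rw [Finset.card_range]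
      omega
    · intro i _
      exact hmem _ (Cfsg.Agent.H122.Cyc.frob_root hl i)
  rw [Finset.mem_range] at hi hj
  have key : ∀ i j : ℕ, i < j → j < Fintype.card ι + 1 → l ^ (q ^ i) = l ^ (q ^ j) →
      ∃ k, 1 ≤ k ∧ k ≤ Fintype.card ι ∧ p ^ a ∣ q ^ k - 1 := by
    intro i j hij hj he
    refine ⟨j - i, by omega, by omega, ?_⟩
    have h1 := (Cfsg.Agent.H122.Cyc.pow_eq_iff hl0 _ _).1 he
    rw [hlo] at h1
    have h2 := (Nat.modEq_iff_dvd' (Nat.pow_le_pow_right Fintype.card_pos hij.le)).1 h1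
    have h3 : q ^ j - q ^ i = q ^ i * (q ^ (j - i) - 1) := by
      rw [Nat.mul_sub, mul_one, ← pow_add]
      congr 2
      omega
    rw [h3] at h2
    exact (hcop.pow_right i).dvd_of_dvd_mul_left h2
  rcases Nat.lt_or_ge i j with h | h
  · exact key i j h hj he
  · exact key j i (by omega) hi he.symm

theorem order_sl {F : Type*} [Field F] [Fintype F] {n p : ℕ} [hp : Fact p.Prime] (hpF : ¬ p ∣ Fintype.card F)
    (x : Matrix.SpecialLinearGroup (Fin n) F) {a : ℕ} (ha : 1 ≤ a) (hx : orderOf x = p ^ a) :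
    ∃ k, 1 ≤ k ∧ k ≤ n ∧ p ^ a ∣ Fintype.card F ^ k - 1 := by
  obtain ⟨k, hk1, hk2, hk3⟩ := exists_dvd (g := x.1) (p := p) (a := a) hpF ha
    (by
      have h1 : x ^ p ^ a = 1 := by rw [← hx, pow_orderOf_eq_one]
      exact congrArg Subtype.val h1)
    (by
      intro h1
      have h2 : x ^ p ^ (a - 1) = 1 := Subtype.ext h1
      have h3 := orderOf_dvd_of_pow_eq_one h2
      rw [hx, Nat.pow_dvd_pow_iff_le_right hp.out.one_lt] at h3
      omega)
  exact ⟨k, hk1, by rwa [Fintype.card_fin] at hk2, hk3⟩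

/-! ### `n = 2` -/

theorem minDeg_two_odd {F : Type} [Field F] [Fintype F] (h : 3 < Fintype.card F) (hodd : Odd (Fintype.card F)) :
    MinDeg (Matrix.SpecialLinearGroup (Fin 2) F) ((Fintype.card F - 1) / 2) := by
  refine Cfsg.Agent.H121.Cyc.minDeg_of_fin (Cfsg.Agent.H259.NatMod.commutator_eq_top h) ?_
  intro k ρ hρ hk
  have h1 := (S2299.result hodd).1 ρ.character ⟨k, ρ, hρ, rfl⟩
  have h2 : ρ.character 1 = (k : ℂ) := by
    rw [Representation.char_one, Module.finrank_fin_fun]
  rw [h2] at h1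
  rcases h1 with h | h | h | h | h | h
  · have : k = 1 := by exact_mod_cast h
    omega
  · have : k = Fintype.card F := by exact_mod_cast h
    omega
  · have : k = Fintype.card F + 1 := by exact_mod_cast h
    omega
  · have h' : ((k + 1 : ℕ) : ℂ) = (Fintype.card F : ℂ) := by
      push_cast
      rw [h]; ring
    have : k + 1 = Fintype.card F := by exact_mod_cast h'
    omega
  · have : k = (Fintype.card F + 1) / 2 := by exact_mod_cast h
    omega
  · have : k = (Fintype.card F - 1) / 2 := by exact_mod_cast h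
    omega

theorem minDeg_two_even {F : Type} [Field F] [Fintype F] (h : 3 < Fintype.card F) [CharP F 2] :
    MinDeg (Matrix.SpecialLinearGroup (Fin 2) F) (Fintype.card F - 1) := by
  refine Cfsg.Agent.H121.Cyc.minDeg_of_fin (Cfsg.Agent.H259.NatMod.commutator_eq_top h) ?_
  intro k ρ hρ hk
  have h1 := (S2300.result (F := F)).1 ρ.character ⟨k, ρ, hρ, rfl⟩
  have h2 : ρ.character 1 = (k : ℂ) := by
    rw [Representation.char_one, Module.finrank_fin_fun]
  rw [h2] at h1
  rcases h1 with h | h | h | h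
  · have : k = 1 := by exact_mod_cast h
    omega
  · have h' : ((k + 1 : ℕ) : ℂ) = (Fintype.card F : ℂ) := by
      push_cast
      rw [h]; ring
    have : k + 1 = Fintype.card F := by exact_mod_cast h'
    omega
  · have : k = Fintype.card F := by exact_mod_cast h
    omega
  · have : k = Fintype.card F + 1 := by exact_mod_cast h
    omega

/-- `p ^ a` divides `q - 1` or `q + 1` -/
theorem dvd_or {q p a k : ℕ} (hp : p.Prime) (hp2 : p ≠ 2) (hq : 2 ≤ q) (hk1 : 1 ≤ k) (hk2 : k ≤ 2)
    (h : p ^ a ∣ q ^ k - 1) : p ^ a ∣ q - 1 ∨ p ^ a ∣ q + 1 := by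
  interval_cases k
  · left; rwa [pow_one] at h
  · have e : q ^ 2 - 1 = (q - 1) * (q + 1) := by
      obtain ⟨t, rfl⟩ := Nat.exists_eq_add_of_le' (show 1 ≤ q by omega)
      have : (t + 1) ^ 2 = t * (t + 1 + 1) + 1 := by ring
      rw [this, Nat.add_sub_cancel, Nat.add_sub_cancel]
    rw [e] at h
    by_cases h1 : p ∣ q - 1
    · left
      have h2 : ¬ p ∣ q + 1 := by
        intro h2
        have h3 : p ∣ (q + 1) - (q - 1) := Nat.dvd_sub h2 h1
        have h4 : (q + 1) - (q - 1) = 2 := by omega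
        rw [h4] at h3
        exact hp2 ((Nat.prime_dvd_prime_iff_eq hp Nat.prime_two).1 h3)
      exact (((Nat.Prime.coprime_iff_not_dvd hp).2 h2).pow_left a).dvd_of_dvd_mul_right h
    · right
      exact (((Nat.Prime.coprime_iff_not_dvd hp).2 h1).pow_left a).dvd_of_dvd_mul_left h

theorem rowS_two {p : ℕ} [hp : Fact p.Prime] (hp2 : p ≠ 2) {F : Type} [Field F] [Fintype F] (h4 : 4 ≤ Fintype.card F)
    (hpF : ¬ p ∣ Fintype.card F) : RowS p (Matrix.ProjectiveSpecialLinearGroup (Fin 2) F) := by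
  have hfin2 : Finite (Matrix.ProjectiveSpecialLinearGroup (Fin 2) F) := Quotient.finite _
  have hsurj : Function.Surjective (QuotientGroup.mk' (Subgroup.center (Matrix.SpecialLinearGroup (Fin 2) F))) :=
    QuotientGroup.mk'_surjective _
  rcases Nat.even_or_odd (Fintype.card F) with hev | hodd
  · have hchar : CharP F 2 := by
      have h1 := FiniteField.even_card_iff_char_two (F := F)
      have h2 : ringChar F = 2 := h1.2 (Nat.even_iff.1 hev)
      rw [← h2]
      exact ringChar.charP F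
    refine RowS.of_surjective hsurj ((minDeg_two_even (by omega)).of_surjective _ hsurj) fun x a ha hx => ?_
    obtain ⟨k, hk1, hk2, hk3⟩ := order_sl hpF x (by omega) hx
    rcases dvd_or hp.out hp2 (by omega) hk1 hk2 hk3 with h | h
    · have := Nat.le_of_dvd (by omega) h
      omega
    · have := Nat.le_of_dvd (by omega) h
      omega
  · refine RowS.of_surjective hsurj ((minDeg_two_odd (by omega) hodd).of_surjective _ hsurj) fun x a ha hx => ?_
    obtain ⟨k, hk1, hk2, hk3⟩ := order_sl hpF x (by omega) hx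
    obtain ⟨t, ht⟩ := hodd
    have hc : Nat.Coprime (p ^ a) 2 :=
      Nat.Coprime.pow_left a ((Nat.coprime_primes hp.out Nat.prime_two).2 hp2)
    rcases dvd_or hp.out hp2 (by omega) hk1 hk2 hk3 with h | h
    · have h1 : Fintype.card F - 1 = 2 * t := by omega
      rw [h1] at h
      have := Nat.le_of_dvd (by omega) (hc.dvd_of_dvd_mul_left h)
      omega
    · have h1 : Fintype.card F + 1 = 2 * (t + 1) := by omega
      rw [h1] at h
      have := Nat.le_of_dvd (by omega) (hc.dvd_of_dvd_mul_left h)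
      omega

/-! ### `n ≥ 3` -/

theorem sq_small {p k : ℕ} (hp : p.Prime) (hp2 : p ≠ 2) {N : ℕ} (hN : 0 < N) (hN2 : N < 100) (h : p ^ k ∣ N) (hk : 2 ≤ k)
    (hs : ∀ r < 10, 3 ≤ r → ¬ r ^ 2 ∣ N) : False := by
  have h1 : p ^ 2 ∣ N := (pow_dvd_pow p hk).trans h
  have h2 := Nat.le_of_dvd hN h1
  have h3 : p < 10 := by
    by_contra hcon
    have : 10 * 10 ≤ p * p := Nat.mul_le_mul (by omega) (by omega)
    rw [pow_two] at h2
    omega
  have h4 : 3 ≤ p := by have := hp.two_le; omega
  exact hs p h3 h4 h1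

theorem rowS_ge_three {p : ℕ} [hp : Fact p.Prime] (hp2 : p ≠ 2) {F : Type} [Field F] [Fintype F] {n : ℕ} (hn : 3 ≤ n)
    (hpF : ¬ p ∣ Fintype.card F) : RowS p (Matrix.ProjectiveSpecialLinearGroup (Fin n) F) := by
  classical
  have hfin2 : Finite (Matrix.ProjectiveSpecialLinearGroup (Fin n) F) := Quotient.finite _
  have hsurj : Function.Surjective (QuotientGroup.mk' (Subgroup.center (Matrix.SpecialLinearGroup (Fin n) F))) :=
    QuotientGroup.mk'_surjective _
  have hq2 : 2 ≤ Fintype.card F := Fintype.one_lt_card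
  by_cases h1 : p ∣ Fintype.card F - 1
  · exact RowS.of_nc (H124.SplitNC.psl hp2 hn h1)
  by_cases hex : (n, Fintype.card F) ≠ (3, 2) ∧ (n, Fintype.card F) ≠ (3, 4) ∧ (n, Fintype.card F) ≠ (4, 2) ∧
      (n, Fintype.card F) ≠ (4, 3)
  · have hM : MinDeg (Matrix.SpecialLinearGroup (Fin n) F) ((Fintype.card F ^ n - Fintype.card F) / (Fintype.card F - 1)) :=
      Cfsg.Agent.H121.Cyc.minDeg_of_fin (Cfsg.Agent.LieClassical.SLGen.commutator_eq_top (by simpa using hn)) (S2332.result n hn hex).1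
    refine RowS.of_surjective hsurj (hM.of_surjective _ hsurj) fun x a ha hx => ?_
    obtain ⟨k, hk1, hk2, hk3⟩ := order_sl hpF x (by omega) hx
    set q := Fintype.card F with hq
    -- `p ^ a * (q - 1) ≤ q ^ n - 1`
    have h2 : p ^ a * (q - 1) ∣ q ^ k - 1 := by
      refine Nat.Coprime.mul_dvd_of_dvd_of_dvd (((Nat.Prime.coprime_iff_not_dvd hp.out).2 h1).pow_left a) hk3 ?_
      have := Nat.sub_dvd_pow_sub_pow q 1 k
      rwa [one_pow] at this
    have h3 : q ^ k ≤ q ^ n := Nat.pow_le_pow_right (by omega) hk2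
    have h4 : 2 ≤ q ^ k := hq2.trans (Nat.le_self_pow (by omega) q)
    have h5 := Nat.le_of_dvd (by omega) h2
    have h6 : p ^ a ≤ (q ^ n - 1) / (q - 1) := by
      rw [Nat.le_div_iff_mul_le (by omega)]
      omega
    have h7 : (q ^ n - 1) / (q - 1) = (q ^ n - q) / (q - 1) + 1 := by
      have h8 : q ≤ q ^ n := Nat.le_self_pow (by omega) q
      have h9 : q ^ n - 1 = (q ^ n - q) + (q - 1) := by omega
      rw [h9, Nat.add_div_right _ (by omega)]
    omega
  · -- no elements of order `p ^ a`, `a ≥ 2`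
    refine RowS.of_surjective hsurj (minDeg_one _) fun x a ha hx => ?_
    exfalso
    obtain ⟨k, hk1, hk2, hk3⟩ := order_sl hpF x (by omega) hx
    have hex' : (n = 3 ∧ Fintype.card F = 2) ∨ (n = 3 ∧ Fintype.card F = 4) ∨ (n = 4 ∧ Fintype.card F = 2) ∨
        (n = 4 ∧ Fintype.card F = 3) := by
      by_contra hcon
      apply hex
      simp only [ne_eq, Prod.mk.injEq]
      tauto
    rcases hex' with ⟨rfl, hc⟩ | ⟨rfl, hc⟩ | ⟨rfl, hc⟩ | ⟨rfl, hc⟩
    · rw [hc] at hk3
      interval_cases k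
      · exact sq_small hp.out hp2 (by norm_num) (by norm_num) hk3 ha (by decide)
      · exact sq_small hp.out hp2 (by norm_num) (by norm_num) hk3 ha (by decide)
      · exact sq_small hp.out hp2 (by norm_num) (by norm_num) hk3 ha (by decide)
    · rw [hc] at hk3 h1
      interval_cases k
      · exact h1 ((dvd_pow_self p (by omega)).trans hk3)
      · exact sq_small hp.out hp2 (by norm_num) (by norm_num) hk3 ha (by decide)
      · have h3 : p ∣ 3 := by
          have h4 : p ^ 2 ∣ 63 := (pow_dvd_pow p ha).trans hk3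
          have h5 := Nat.le_of_dvd (by norm_num) h4
          have h6 : p < 8 := by
            by_contra hcon
            have : 8 * 8 ≤ p * p := Nat.mul_le_mul (by omega) (by omega)
            rw [pow_two] at h5
            omega
          have h7 : ∀ r < 8, r ^ 2 ∣ 63 → r ∣ 3 := by decide
          exact h7 p h6 h4
        exact h1 h3
    · rw [hc] at hk3
      interval_cases k
      · exact sq_small hp.out hp2 (by norm_num) (by norm_num) hk3 ha (by decide)
      · exact sq_small hp.out hp2 (by norm_num) (by norm_num) hk3 ha (by decide)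
      · exact sq_small hp.out hp2 (by norm_num) (by norm_num) hk3 ha (by decide)
      · exact sq_small hp.out hp2 (by norm_num) (by norm_num) hk3 ha (by decide)
    · rw [hc] at hk3
      have hp2' : ∀ N : ℕ, p ^ a ∣ 2 ^ 4 * N → p ^ a ∣ N := fun N h =>
        (Nat.Coprime.pow a 4 ((Nat.coprime_primes hp.out Nat.prime_two).2 hp2)).dvd_of_dvd_mul_left h
      interval_cases k
      · exact sq_small hp.out hp2 (by norm_num) (by norm_num) hk3 ha (by decide)
      · exact sq_small hp.out hp2 (N := 1) (by norm_num) (by norm_num)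
          (hp2' 1 (hk3.trans (by norm_num))) ha (by decide)
      · exact sq_small hp.out hp2 (by norm_num) (by norm_num) hk3 ha (by decide)
      · exact sq_small hp.out hp2 (N := 5) (by norm_num) (by norm_num)
          (hp2' 5 (hk3.trans (by norm_num))) ha (by decide)

/-- **The row `PSL`.** -/
theorem rowS_psl {p : ℕ} [hp : Fact p.Prime] (hp2 : p ≠ 2) {G : Type*} [Group G] [Finite G] [IsSimpleGroup G]
    (h : Cfsg.IsPSL G) : RowS p G := by
  obtain ⟨F, _, _, n, hn, h4, ⟨e⟩⟩ := h
  rcases Cfsg.Agent.H123.RowPSp.char_or F p with h1 | h1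
  · exact Cfsg.Agent.H123.RowPSp.rowS_char hp2 (Or.inl ⟨F, inferInstance, inferInstance, h1, n, hn, h4, ⟨e⟩⟩)
  refine RowS.congr ?_ e.symm
  rcases Nat.lt_or_ge n 3 with h | h
  · have h2 : n = 2 := by omega
    subst h2
    exact rowS_two hp2 (h4 rfl) h1
  · exact rowS_ge_three hp2 h h1

end Cfsg.Agent.H124.RowPSL
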